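import Cfsg.Agent.Lib.Helper8.BalU.Q8Core
import Cfsg.Agent.S0827

/-!
# The minimal normal subgroup of `PSU_3(2)` (helper8)

Every nontrivial normal subgroup of `PSU_3(2)` (over any field with four elements) contains a fixed
subgroup with an element of order three.
-/

set_option autoImplicit false

namespace Cfsg.Agent.Lib.Helper8.BalU

open Matrix Cfsg Cfsg.Agent.Lib.Helper8.Hexacode Cfsg.Agent.Lib.Helper8.SUTransport
open Cfsg.Agent.S0827

/-- the statement for the concrete field -/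
theorem exists_min_normal_c : ∃ M : Subgroup (PSU 3 F4 2),
    (∀ N : Subgroup (PSU 3 F4 2), N.Normal → N = ⊥ ∨ M ≤ N) ∧ ∃ s ∈ M, orderOf s = 3 := by
  have hcard : Nat.card (PSU 3 F4 2) = 72 := (Cfsg.Agent.S0282.result (F := F4) F4.card).1
  let n1 : PSU 3 F4 2 := QuotientGroup.mk dS
  let n2 : PSU 3 F4 2 := QuotientGroup.mk pS
  let a : PSU 3 F4 2 := QuotientGroup.mk aS
  let b : PSU 3 F4 2 := QuotientGroup.mk bS
  have hn1 : n1 ∈ Subgroup.closure ({n1, n2} : Set (PSU 3 F4 2)) :=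
    Subgroup.subset_closure (by simp)
  have hn2 : n2 ∈ Subgroup.closure ({n1, n2} : Set (PSU 3 F4 2)) :=
    Subgroup.subset_closure (by simp)
  have r1 : a * n1 = n2 ^ 2 * a := mk_eq _ _ _ e_c1
  have r2 : a * n2 = n1 * a := mk_eq _ _ _ e_c2
  have r3 : b * n1 = n1 * n2 ^ 2 * b := mk_eq _ _ _ e_c3
  have r4 : b * n2 = n1 ^ 2 * n2 ^ 2 * b := mk_eq _ _ _ e_c4
  refine exists_min_normal_72 hcard n1 n2 a b ?_ ?_ ?_ ?_ ?_ ?_ ?_ ?_ ?_ ?_ ?_ r1 r2 ?_ ?_
  · show (QuotientGroup.mk (dS ^ 3) : PSU 3 F4 2) = 1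
    rw [e_d3]; rfl
  · show (QuotientGroup.mk (pS ^ 3) : PSU 3 F4 2) = 1
    rw [e_p3]; rfl
  · exact mk_eq _ _ _ e_comm
  · exact mk_ne_one _ _ ne_dp
  · exact mk_ne_one _ _ ne_pd
  · exact mk_ne _ _ _ ne_1
  · exact mk_ne _ _ _ ne_2
  · show (QuotientGroup.mk (aS ^ 4) : PSU 3 F4 2) = 1
    rw [e_a4]; rfl
  · show (QuotientGroup.mk (bS ^ 2) : PSU 3 F4 2) = QuotientGroup.mk (aS ^ 2)
    rw [e_b2]
  · show (QuotientGroup.mk (bS * aS) : PSU 3 F4 2) = QuotientGroup.mk (aS ^ 3 * bS)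
    rw [e_ba]
  · exact mk_ne_one _ _ ne_a2
  · rw [r3, mul_inv_cancel_right]
    exact Subgroup.mul_mem _ hn1 (Subgroup.pow_mem _ hn2 2)
  · rw [r4, mul_inv_cancel_right]
    exact Subgroup.mul_mem _ (Subgroup.pow_mem _ hn1 2) (Subgroup.pow_mem _ hn2 2)

/-- transport of the conclusion along an isomorphism -/
theorem min_normal_transport {G G' : Type*} [Group G] [Group G'] (φ : G ≃* G')
    (h : ∃ M : Subgroup G, (∀ N : Subgroup G, N.Normal → N = ⊥ ∨ M ≤ N) ∧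
      ∃ s ∈ M, orderOf s = 3) :
    ∃ M : Subgroup G', (∀ N : Subgroup G', N.Normal → N = ⊥ ∨ M ≤ N) ∧
      ∃ s ∈ M, orderOf s = 3 := by
  obtain ⟨M, hM, s, hs, hs3⟩ := h
  refine ⟨M.map (φ : G →* G'), ?_, φ s, Subgroup.mem_map_of_mem _ hs, ?_⟩
  · intro N hN
    have hN' : (N.comap (φ : G →* G')).Normal := hN.comap _
    rcases hM _ hN' with h1 | h1
    · left
      rw [Subgroup.eq_bot_iff_forall]
      intro x hx
      obtain ⟨y, rfl⟩ := φ.surjective x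
      have hy : y ∈ N.comap (φ : G →* G') := hx
      rw [h1, Subgroup.mem_bot] at hy
      rw [hy, map_one]
    · right
      rw [Subgroup.map_le_iff_le_comap]
      exact h1
  · rw [← hs3]
    exact orderOf_injective (φ : G →* G') φ.injective s

/-- **the minimal normal subgroup of `PSU_3(2)`** -/
theorem exists_min_normal_psu32 {F₀ : Type*} [Field F₀] [Fintype F₀]
    (hF₀ : Fintype.card F₀ = 4) :
    ∃ M : Subgroup (PSU 3 F₀ 2), (∀ N : Subgroup (PSU 3 F₀ 2), N.Normal → N = ⊥ ∨ M ≤ N) ∧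
      ∃ s ∈ M, orderOf s = 3 := by
  have e : F4 ≃+* F₀ :=
    FiniteField.ringEquivOfCardEq (K := F4) (K' := F₀) (by rw [hF₀, F4.card])
  exact min_normal_transport (psuEquiv e 3 2) exists_min_normal_c

end Cfsg.Agent.Lib.Helper8.BalU
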