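import Cfsg.Agent.Lib.Helper7.BalU.U0
import Cfsg.Agent.Lib.Helper7.BalU.UC
import Cfsg.Agent.Lib.Helper7.AutPSU.FieldPGU
import Cfsg.Agent.Lib.Helper8.BalL.FieldD
import Cfsg.Agent.Lib.Helper8.BalL.UA

/-!
# Field automorphisms of `PSU_n`: the subfield subgroup (helper8)

Base change `SU_n(F₀) → SU_n(F)` along an inclusion of fields `ι : F₀ →+* F` with `|F₀| = q₀²`,
`|F| = q²`, `q = q₀^p` (`p` odd), the induced map `PSU_n(F₀) → PSU_n(F)` and the arithmetic of
the fixed field of an automorphism of odd prime order.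
-/

set_option autoImplicit false
set_option linter.unusedSectionVars false

namespace Cfsg.Agent.Lib.Helper8.BalU

open Matrix Cfsg Cfsg.Agent.Lib.H7AutPSp Cfsg.Agent.Lib.H7AutPSU Cfsg.Agent.Lib.H7AutPSL
open Cfsg.Agent.Lib.H7BalU Cfsg.Agent.Lib.Helper8.AutSp Cfsg.Agent.Lib.Helper8.BalL

universe u v

variable {n : ℕ} {F : Type u} [Field F] {q : ℕ} {F₀ : Type v} [Field F₀] {q₀ : ℕ}

/-! ### arithmetic of the fixed field -/

/-- the fixed field of an automorphism of odd prime order `p` of a field with `q²` elements has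
`q₀²` elements with `q = q₀^p` -/
theorem exists_q0 [Fintype F] [Fintype F₀] (hF : Fintype.card F = q ^ 2) (σ : RingAut F)
    {p : ℕ} (hp : p.Prime) (hp2 : p ≠ 2) (hσ : orderOf σ = p) (ι : F₀ →+* F)
    (hι : ∀ t : F, σ t = t ↔ ∃ s, ι s = t) :
    ∃ q₁ : ℕ, Fintype.card F₀ = q₁ ^ 2 ∧ q = q₁ ^ p := by
  classical
  have hfo : IsOfFinOrder σ := orderOf_pos_iff.1 (by rw [hσ]; exact hp.pos)
  have hfin : Finite (Subgroup.zpowers σ) := Set.finite_coe_iff.2 hfo.finite_zpowers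
  let _ : Fintype (Subgroup.zpowers σ) := Fintype.ofFinite _
  let _ : Fintype (FixedPoints.subfield (Subgroup.zpowers σ) F) := Fintype.ofFinite _
  have h1 : Module.finrank (FixedPoints.subfield (Subgroup.zpowers σ) F) F = p := by
    rw [FixedPoints.finrank_eq_card, ← Nat.card_eq_fintype_card, Nat.card_zpowers, hσ]
  have h2 := Module.card_eq_pow_finrank (K := FixedPoints.subfield (Subgroup.zpowers σ) F) (V := F)
  rw [h1, hF] at h2
  -- the two descriptions of the fixed field have the same number of elements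
  have hcard : Fintype.card F₀ = Fintype.card (FixedPoints.subfield (Subgroup.zpowers σ) F) := by
    apply Fintype.card_congr
    refine Equiv.ofBijective (fun s => ⟨ι s, (mem_fixed_iff σ (ι s)).2 ((hι (ι s)).2 ⟨s, rfl⟩)⟩)
      ⟨?_, ?_⟩
    · intro a b hab
      exact ι.injective (congrArg Subtype.val hab)
    · intro t
      obtain ⟨s, hs⟩ := (hι t.1).1 ((mem_fixed_iff σ t.1).1 t.2)
      exact ⟨s, Subtype.ext hs⟩
  rw [← hcard] at h2
  -- arithmetic
  obtain ⟨r, -, a, hr, ha⟩ := FiniteField.card' F₀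
  have ha' : Fintype.card F₀ = r ^ (a : ℕ) := ha
  rw [ha', ← pow_mul] at h2
  have hq : q ∣ r ^ ((a : ℕ) * p) := by
    rw [← h2]
    exact dvd_pow_self _ (by norm_num)
  obtain ⟨b, -, hb⟩ := (Nat.dvd_prime_pow hr).1 hq
  rw [hb, ← pow_mul] at h2
  have h3 : b * 2 = (a : ℕ) * p := Nat.pow_right_injective hr.two_le h2
  have hpb : p ∣ b := by
    have h4 : p ∣ b * 2 := by rw [h3]; exact dvd_mul_left _ _
    exact ((Nat.coprime_primes hp Nat.prime_two).2 hp2).dvd_of_dvd_mul_right h4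
  obtain ⟨c, rfl⟩ := hpb
  have h5 : (a : ℕ) = c * 2 := by
    have : p * (c * 2) = p * (a : ℕ) := by rw [mul_comm p (a : ℕ), ← h3]; ring
    exact (Nat.eq_of_mul_eq_mul_left hp.pos this).symm
  refine ⟨r ^ c, ?_, ?_⟩
  · rw [ha', h5, pow_mul]
  · rw [hb, ← pow_mul, mul_comm]

/-! ### base change of the special unitary group -/

section base

variable (ι : F₀ →+* F) (τ₀ : RingAut F₀) (hτ₀ : ∀ s, τ₀ s = s ^ q₀) (τ : RingAut F)
  (hτ : ∀ t, τ t = t ^ q) (hιτ : ∀ s, ι (s ^ q₀) = (ι s) ^ q)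

/-- base change `SU_n(F₀) → SU_n(F)` -/
def mapSU : SUn n F₀ q₀ →* SUn n F q :=
  ((Matrix.SpecialLinearGroup.map ι).comp (Cfsg.SU n F₀ q₀).subtype).codRestrict _ (fun s => by
    have h := (mapGU ι τ₀ hτ₀ τ hτ hιτ (toGU s)).2
    intro u v
    exact h u v)

theorem mapSU_val (s : SUn n F₀ q₀) :
    (mapSU ι τ₀ hτ₀ τ hτ hιτ s).1.1 = s.1.1.map ι := rfl

theorem mapSU_injective : Function.Injective (mapSU (n := n) ι τ₀ hτ₀ τ hτ hιτ) := by
  intro a b hab
  apply su_ext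
  have h := congrArg (fun x : SUn n F q => x.1.1) hab
  simp only [mapSU_val] at h
  ext i j
  have := congrFun (congrFun h i) j
  rw [Matrix.map_apply, Matrix.map_apply] at this
  exact ι.injective this

theorem map_smul_one (a : F₀) :
    (a • (1 : Matrix (Fin n) (Fin n) F₀)).map ι = ι a • (1 : Matrix (Fin n) (Fin n) F) := by
  ext i j
  rw [Matrix.map_apply, Matrix.smul_apply, Matrix.smul_apply, Matrix.one_apply, Matrix.one_apply,
    smul_eq_mul, smul_eq_mul, map_mul, apply_ite ι, map_one, map_zero]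

/-- scalar elements of `SU_n` are central -/
theorem su_center_of_scalar (m : SUn n F q) (c : F)
    (h : m.1.1 = c • (1 : Matrix (Fin n) (Fin n) F)) : m ∈ Subgroup.center (SUn n F q) := by
  rw [Subgroup.mem_center_iff]
  intro t
  apply su_ext
  rw [su_mul_val, su_mul_val, h, Matrix.smul_mul, Matrix.mul_smul, Matrix.one_mul, Matrix.mul_one]

theorem mapSU_center [Fintype F₀] (hF₀ : Fintype.card F₀ = q₀ ^ 2) (hn : 1 ≤ n)
    (z : SUn n F₀ q₀) (hz : z ∈ Subgroup.center (SUn n F₀ q₀)) :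
    mapSU ι τ₀ hτ₀ τ hτ hιτ z ∈ Subgroup.center (SUn n F q) := by
  obtain ⟨a, ha⟩ := center_SU_scalar hF₀ hn z hz
  apply su_center_of_scalar _ (ι (a : F₀))
  rw [mapSU_val, ha, map_smul_one]

/-- the induced map `PSU_n(F₀) → PSU_n(F)` -/
noncomputable def jU [Fintype F₀] (hF₀ : Fintype.card F₀ = q₀ ^ 2) (hn : 3 ≤ n) :
    PSUn n F₀ q₀ →* PSUn n F q :=
  QuotientGroup.map _ _ (mapSU ι τ₀ hτ₀ τ hτ hιτ)
    (fun z hz => mapSU_center ι τ₀ hτ₀ τ hτ hιτ hF₀ (by omega) z hz)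

theorem jU_pr [Fintype F₀] (hF₀ : Fintype.card F₀ = q₀ ^ 2) (hn : 3 ≤ n) (s : SUn n F₀ q₀) :
    jU ι τ₀ hτ₀ τ hτ hιτ hF₀ hn (prC s) = prC (mapSU ι τ₀ hτ₀ τ hτ hιτ s) := rfl

/-- the image of the subfield group is fixed by a field automorphism trivial on the subfield -/
theorem PhU_jU [Fintype F₀] (hF₀ : Fintype.card F₀ = q₀ ^ 2) (hn : 3 ≤ n) (σ : RingAut F)
    (hισ : ∀ s, σ (ι s) = ι s) (s : PSUn n F₀ q₀) :
    PhU σ (jU ι τ₀ hτ₀ τ hτ hιτ hF₀ hn s) = jU ι τ₀ hτ₀ τ hτ hιτ hF₀ hn s := by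
  obtain ⟨s, rfl⟩ := prC_surjective s
  rw [jU_pr, PhU_pr]
  congr 1
  apply su_ext
  rw [fieldSUFun_val, mapSU_val]
  ext i j
  rw [Matrix.map_apply, Matrix.map_apply]
  exact hισ _

end base

end Cfsg.Agent.Lib.Helper8.BalU
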