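import Cfsg.Agent.Lib.Helper8.BalU.FA

/-!
# The centraliser of a unitary group over a subfield in the semilinear group (helper8)

Relative, characteristic-free version of `BalL.centU_matrix`: the unitary group lives over a
subfield `ι : F₀ →+* F` (for an involution `θ` of `F₀`), the matrix `h` and the field endomorphism
`ρ` over `F`.  If `h ρ(ι s) h⁻¹` is a scalar multiple of `ι s` for every `s ∈ SU_n(F₀, θ)` then
`ρ` is trivial on `F₀` and `h` is scalar.
-/

set_option autoImplicit false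
set_option linter.unusedSectionVars false

namespace Cfsg.Agent.Lib.Helper8.BalU

open Matrix Cfsg Cfsg.Agent.AutPSLCount Cfsg.Agent.Lib.H7AutPSL Cfsg.Agent.Lib.Helper8.BalL

variable {F₀ : Type*} {F : Type*} [Field F₀] [Field F] {n : ℕ}

theorem vec3_map_hom (κ : F₀ →+* F) (i j k : Fin n) (a b : F₀) :
    (fun l => κ (vec3 i j k a b l)) = vec3 i j k (κ a) (κ b) := by
  funext l
  unfold vec3
  simp only [Pi.add_apply, Pi.smul_apply, smul_eq_mul, map_add, map_mul, Pi.single_apply]
  split_ifs <;> simp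

section cent

variable [Fintype F₀] (θ : RingAut F₀) (hθ2 : θ ^ 2 = 1) (hθ1 : θ ≠ 1)

include hθ2 hθ1 in
/-- two distinct elements of norm `-1` -/
theorem exists_two_norm : ∃ l₁ l₂ : F₀, l₁ * θ l₁ = -1 ∧ l₂ * θ l₂ = -1 ∧ l₁ ≠ l₂ := by
  have hθθ := aut_sq_apply θ hθ2
  obtain ⟨lam, hlam⟩ := exists_norm θ hθ2 hθ1 (-1) (by rw [map_neg, map_one])
  obtain ⟨w, hw⟩ : ∃ w : F₀, θ w ≠ w := by
    by_contra hcon
    push Not at hcon
    exact hθ1 (RingEquiv.ext hcon)
  have hw0 : w ≠ 0 := by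
    rintro rfl
    exact hw (map_zero θ)
  have hθw0 : θ w ≠ 0 := (map_ne_zero θ).2 hw0
  have hlam0 : lam ≠ 0 := by
    rintro rfl
    rw [zero_mul] at hlam
    exact (neg_ne_zero.2 one_ne_zero) hlam.symm
  refine ⟨lam, lam * (θ w / w), hlam, ?_, ?_⟩
  · rw [map_mul, map_div₀, hθθ]
    have : lam * (θ w / w) * (θ lam * (w / θ w)) = (lam * θ lam) * ((θ w / w) * (w / θ w)) := by
      ring
    rw [this, hlam]
    field_simp
  · intro h
    have h1 : lam * 1 = lam * (θ w / w) := by rw [mul_one]; exact h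
    have h2 := mul_left_cancel₀ hlam0 h1
    apply hw
    field_simp at h2
    exact h2.symm

include hθ2 hθ1 in
/-- a semilinear map normalising the unitary group over the subfield preserves the rational
isotropic lines -/
theorem iso_line_rel (hn : 3 ≤ n) (ι : F₀ →+* F) (h : Matrix (Fin n) (Fin n) F) (hh : IsUnit h)
    (ρ : F →+* F)
    (H : ∀ s : SLn n F₀, IsU θ s → ∃ ζ : F, h * (s.val.map ι).map ρ = ζ • (s.val.map ι * h))
    (v : Fin n → F₀) (hv0 : v ≠ 0) (hv : (fun i => θ (v i)) ⬝ᵥ v = 0) :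
    ∃ d : F, h *ᵥ (fun i => ρ (ι (v i))) = d • (fun i => ι (v i)) := by
  have hθθ := aut_sq_apply θ hθ2
  obtain ⟨c, hc0, hc⟩ := exists_skew θ hθ2 hθ1
  obtain ⟨ζ, hζ⟩ := H (utv θ v c hv) (utv_isU θ hθθ v c hv hc)
  rw [utv_val, tv_map, tv_map] at hζ
  have hne : (fun i => ρ (ι (θ (v i)))) ≠ 0 := by
    intro h0
    apply hv0
    funext i
    have := congrFun h0 i
    rw [Pi.zero_apply, map_eq_zero, map_eq_zero, map_eq_zero] at this
    exact this
  obtain ⟨d, hd⟩ := tv_center hn h hh _ _ _ _ hne ζ hζ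
  have e : (fun i => ρ (ι ((c • v) i))) = ρ (ι c) • (fun i => ρ (ι (v i))) := by
    funext i
    simp only [Pi.smul_apply, smul_eq_mul, map_mul]
  have e' : (fun i => ι ((c • v) i)) = ι c • (fun i => ι (v i)) := by
    funext i
    simp only [Pi.smul_apply, smul_eq_mul, map_mul]
  rw [e, e', Matrix.mulVec_smul] at hd
  have hτc : ρ (ι c) ≠ 0 := (map_ne_zero ρ).2 ((map_ne_zero ι).2 hc0)
  refine ⟨(ρ (ι c))⁻¹ * (d * ι c), ?_⟩
  rw [← smul_smul, ← smul_smul, ← hd, smul_smul, inv_mul_cancel₀ hτc, one_smul]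

include hθ2 hθ1 in
/-- **the centraliser of the unitary group over a subfield** -/
theorem centU_matrix_rel (hn : 3 ≤ n) (ι : F₀ →+* F) (h : Matrix (Fin n) (Fin n) F)
    (hh : IsUnit h) (ρ : F →+* F)
    (H : ∀ s : SLn n F₀, IsU θ s → ∃ ζ : F, h * (s.val.map ι).map ρ = ζ • (s.val.map ι * h)) :
    (∀ t : F₀, ρ (ι t) = ι t) ∧ ∃ c : F, h = c • (1 : Matrix (Fin n) (Fin n) F) := by
  have hθθ := aut_sq_apply θ hθ2
  have hinj := (Matrix.mulVec_injective_iff_isUnit).2 hh
  have hline := iso_line_rel θ hθ2 hθ1 hn ι h hh ρ H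
  -- the relation for the isotropic vector `e_i + a e_j + b e_k`
  have hrel : ∀ (i j k : Fin n) (hij : i ≠ j) (hik : i ≠ k) (hjk : j ≠ k) (a b : F₀),
      1 + θ a * a + θ b * b = 0 → ∃ d : F, ∀ l : Fin n,
        h l i + ρ (ι a) * h l j + ρ (ι b) * h l k = d * vec3 i j k (ι a) (ι b) l := by
    intro i j k hij hik hjk a b hab
    have hiso : (fun l => θ (vec3 i j k a b l)) ⬝ᵥ vec3 i j k a b = 0 := by
      have := vec3_map (θ : F₀ →+* F₀) i j k a b
      rw [show (fun l => θ (vec3 i j k a b l)) = vec3 i j k (θ a) (θ b) from this,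
        vec3_dot i j k hij hik hjk]
      exact hab
    obtain ⟨d, hd⟩ := hline (vec3 i j k a b) (vec3_ne_zero i j k hij hik a b) hiso
    have e1 : (fun l => ρ (ι (vec3 i j k a b l))) = vec3 i j k (ρ (ι a)) (ρ (ι b)) :=
      vec3_map_hom (ρ.comp ι) i j k a b
    have e2 : (fun l => ι (vec3 i j k a b l)) = vec3 i j k (ι a) (ι b) :=
      vec3_map_hom ι i j k a b
    rw [e1, e2] at hd
    refine ⟨d, fun l => ?_⟩
    have := congrFun hd l
    rw [mulVec_vec3, Pi.smul_apply, smul_eq_mul] at this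
    exact this
  obtain ⟨lam₁, lam₂, hl₁, hl₂, hne⟩ := exists_two_norm θ hθ2 hθ1
  -- `h` is diagonal
  have hdiag : ∀ i l : Fin n, l ≠ i → h l i = 0 := by
    intro i l hli
    obtain ⟨j, hji, hjl⟩ := Cfsg.Agent.S0249.exists_third hn i l
    have hik : i ≠ l := Ne.symm hli
    obtain ⟨d1, hd1⟩ := hrel i j l (Ne.symm hji) hik hjl lam₁ 0 (by
      rw [map_zero, zero_mul, add_zero]
      linear_combination hl₁)
    obtain ⟨d2, hd2⟩ := hrel i j l (Ne.symm hji) hik hjl lam₂ 0 (by
      rw [map_zero, zero_mul, add_zero]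
      linear_combination hl₂)
    have e1 := hd1 l
    have e2 := hd2 l
    have hv : ∀ a : F, vec3 i j l a 0 l = 0 := by
      intro a
      unfold vec3
      simp only [Pi.add_apply, Pi.smul_apply, smul_eq_mul, Pi.single_eq_of_ne hli,
        Pi.single_eq_of_ne (Ne.symm hjl), mul_zero, add_zero, zero_mul]
    rw [map_zero, hv, mul_zero, map_zero, zero_mul, add_zero] at e1 e2
    have hne' : ρ (ι lam₁) - ρ (ι lam₂) ≠ 0 := by
      intro h0
      apply hne
      exact ι.injective (ρ.injective (sub_eq_zero.1 h0))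
    have h1 : (ρ (ι lam₁) - ρ (ι lam₂)) * h l j = 0 := by linear_combination e1 - e2
    rcases mul_eq_zero.1 h1 with h' | h'
    · exact absurd h' hne'
    · rw [h', mul_zero, add_zero] at e1
      exact e1
  -- the diagonal entries agree and `ρ` is trivial on the subfield
  have hkey : ∀ (i j : Fin n), i ≠ j → ∀ a : F₀, ρ (ι a) * h j j = h i i * ι a := by
    intro i j hij a
    obtain ⟨k, hki, hkj⟩ := Cfsg.Agent.S0249.exists_third hn i j
    obtain ⟨b, hb⟩ := exists_norm θ hθ2 hθ1 (-1 - θ a * a) (by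
      rw [map_sub, map_neg, map_one, map_mul, hθθ]
      ring)
    obtain ⟨d, hd⟩ := hrel i j k hij (Ne.symm hki) (Ne.symm hkj) a b (by
      linear_combination hb)
    have e1 := hd i
    have e2 := hd j
    rw [vec3_apply_fst i j k hij (Ne.symm hki), hdiag j i hij, hdiag k i (Ne.symm hki), mul_zero,
      mul_zero, add_zero, add_zero, mul_one] at e1
    rw [vec3_apply_snd i j k hij (Ne.symm hkj), hdiag i j (Ne.symm hij), hdiag k j (Ne.symm hkj),
      mul_zero, add_zero, zero_add] at e2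
    rw [e2, e1]
  have hother : ∀ i : Fin n, ∃ j : Fin n, i ≠ j := by
    intro i
    obtain ⟨k, hki, -⟩ := Cfsg.Agent.S0249.exists_third hn i i
    exact ⟨k, Ne.symm hki⟩
  have hceq : ∀ i j : Fin n, h i i = h j j := by
    intro i j
    by_cases hij : i = j
    · rw [hij]
    · have := hkey i j hij 1
      rw [map_one, map_one, one_mul, mul_one] at this
      exact this.symm
  have hc0 : ∀ i : Fin n, h i i ≠ 0 := by
    intro i h0
    have h1 : h *ᵥ Pi.single i 1 = 0 := by
      funext l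
      rw [Matrix.mulVec_single_one, Matrix.col_apply, Pi.zero_apply]
      by_cases hli : l = i
      · rw [hli, h0]
      · exact hdiag i l hli
    have h3 : (Pi.single i 1 : Fin n → F) = 0 := hinj (by rw [h1, Matrix.mulVec_zero])
    have := congrFun h3 i
    rw [Pi.single_eq_same, Pi.zero_apply] at this
    exact one_ne_zero this
  constructor
  · intro t
    obtain ⟨j, hij⟩ := hother (⟨0, by omega⟩ : Fin n)
    have := hkey _ j hij t
    rw [hceq ⟨0, by omega⟩ j, mul_comm] at this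
    exact mul_left_cancel₀ (hc0 j) this
  · refine ⟨h ⟨0, by omega⟩ ⟨0, by omega⟩, ?_⟩
    ext i j
    rw [Matrix.smul_apply, Matrix.one_apply, smul_eq_mul]
    by_cases hij : i = j
    · rw [if_pos hij, mul_one, hij]
      exact hceq j _
    · rw [if_neg hij, mul_zero]
      exact hdiag j i hij

end cent

end Cfsg.Agent.Lib.Helper8.BalU
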