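import Cfsg.Agent.Lib.Helper8.BalU.FB

/-!
# Field automorphisms of `PSU_n`: the subfield subgroup is normal, self-centralising, rigid (helper8)
-/

set_option autoImplicit false
set_option linter.unusedSectionVars false

namespace Cfsg.Agent.Lib.Helper8.BalU

open Matrix Cfsg Cfsg.Agent.Lib.H7AutPSp Cfsg.Agent.Lib.H7AutPSU Cfsg.Agent.Lib.H7AutPSL
open Cfsg.Agent.Lib.H7BalU Cfsg.Agent.Lib.Helper8.AutSp Cfsg.Agent.Lib.Helper8.BalL
open Cfsg.Agent.AutPSLCount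

universe u v

variable {n : ℕ} {F : Type u} [Field F] {q : ℕ} {F₀ : Type v} [Field F₀] {q₀ : ℕ}

section base

variable (ι : F₀ →+* F) (τ₀ : RingAut F₀) (hτ₀ : ∀ s, τ₀ s = s ^ q₀) (τ : RingAut F)
  (hτ : ∀ t, τ t = t ^ q) (hιτ : ∀ s, ι (s ^ q₀) = (ι s) ^ q)

theorem map_one_hom : (1 : Matrix (Fin n) (Fin n) F₀).map ι = 1 := by
  ext i j
  rw [Matrix.map_apply, Matrix.one_apply, Matrix.one_apply, apply_ite ι, map_one, map_zero]

theorem map_injective_hom (A B : Matrix (Fin n) (Fin n) F₀) (h : A.map ι = B.map ι) : A = B := by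
  ext i j
  have := congrFun (congrFun h i) j
  rw [Matrix.map_apply, Matrix.map_apply] at this
  exact ι.injective this

include hτ₀ hτ hιτ in
theorem map_tau_hom (A : Matrix (Fin n) (Fin n) F₀) : (A.map τ₀).map ι = (A.map ι).map τ := by
  ext i j
  rw [Matrix.map_apply, Matrix.map_apply, Matrix.map_apply, Matrix.map_apply, hτ₀, hτ, hιτ]

include hτ₀ hτ hιτ in
/-- a general unitary matrix with entries in the subfield comes from the subfield -/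
theorem exists_mapGU_eq (g : ↥(Cfsg.GU n F q)) (hg : ∀ i j, ∃ s, ι s = g.1.val i j) :
    ∃ g₀ : ↥(Cfsg.GU n F₀ q₀), g₀.1.val.map ι = g.1.val := by
  choose M₀ hM₀ using hg
  let M : Matrix (Fin n) (Fin n) F₀ := Matrix.of M₀
  have hM : M.map ι = g.1.val := by
    ext i j
    rw [Matrix.map_apply]
    exact hM₀ i j
  have h1 : M * (M.map τ₀)ᵀ = 1 := by
    apply map_injective_hom ι
    rw [Matrix.map_mul, Matrix.transpose_map, map_tau_hom ι τ₀ hτ₀ τ hτ hιτ, hM, map_one_hom]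
    exact (mem_GU_iff τ q hτ g.1).1 g.2
  have h2 : (M.map τ₀)ᵀ * M = 1 := mul_eq_one_comm.1 h1
  let g₀ : GL (Fin n) F₀ := ⟨M, (M.map τ₀)ᵀ, h1, h2⟩
  refine ⟨⟨g₀, (mem_GU_iff τ₀ q₀ hτ₀ g₀).2 h1⟩, hM⟩

/-- a special linear matrix over the subfield which is unitary, as an element of `SU_n(F₀)` -/
def suOfIsU (s : SLn n F₀) (hs : IsU τ₀ s) : SUn n F₀ q₀ :=
  ⟨s, by
    have h := (mem_GU_iff τ₀ q₀ hτ₀ (Matrix.SpecialLinearGroup.toGL s)).2 hs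
    intro u v
    exact h u v⟩

theorem suOfIsU_val (s : SLn n F₀) (hs : IsU τ₀ s) : (suOfIsU τ₀ hτ₀ s hs).1.1 = s.val := rfl

end base

section main

variable [Fintype F] [Fintype F₀] (hF : Fintype.card F = q ^ 2) (hF₀ : Fintype.card F₀ = q₀ ^ 2)
  (hn : 3 ≤ n) (hs : ¬ (n = 3 ∧ q = 2))
  (ι : F₀ →+* F) (τ₀ : RingAut F₀) (hτ₀ : ∀ s, τ₀ s = s ^ q₀) (τ : RingAut F)
  (hτ : ∀ t, τ t = t ^ q) (hιτ : ∀ s, ι (s ^ q₀) = (ι s) ^ q)
  (hτ2 : τ ^ 2 = 1) (hτ1 : τ ≠ 1) (hτ₀2 : τ₀ ^ 2 = 1) (hτ₀1 : τ₀ ≠ 1)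
  (σ : RingAut F) (hισ : ∀ s, σ (ι s) = ι s) (hιs : ∀ t : F, σ t = t → ∃ s, ι s = t)
  {p : ℕ} (hp : p.Prime) (hp2 : p ≠ 2) (hσ : orderOf σ = p)

include hF hn hs hτ₀ hτ hιτ hτ2 hτ1 hιs hp hp2 hσ in
/-- a fixed point of the field automorphism is represented, up to a scalar, by a general unitary
matrix over the subfield -/
theorem fixed_rep (m : SUn n F q) (hfix : PhU σ (prC m : PSUn n F q) = prC m) :
    ∃ (g₀ : ↥(Cfsg.GU n F₀ q₀)) (ν : F), ν ≠ 0 ∧ g₀.1.val.map ι = ν • m.1.1 := by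
  rw [PhU_pr] at hfix
  obtain ⟨ζ, hζ⟩ := prC_eq_smul hF (by omega) m (fieldSUFun σ m) hfix.symm
  rw [fieldSUFun_val] at hζ
  have hmem : toGU m ∈ centGU (PhU σ : MulAut (PSUn n F q)) :=
    (mem_centGU_field hF hn hs σ (toGU m)).2 ⟨ζ, hζ⟩
  have hodd : Odd p := hp.odd_of_ne_two hp2
  have hθ := exists_fixed_not_fixed σ τ (frob_comm σ τ hτ) p hodd hσ hτ2 hτ1
  have hσp : σ ^ p = 1 := by rw [← hσ]; exact pow_orderOf_eq_one σ
  have hinj : ∀ i j, i < p → j < p → σ ^ i = σ ^ j → i = j := by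
    intro i j hi hj hij
    exact pow_injOn_Iio_orderOf (by rw [hσ]; exact hi) (by rw [hσ]; exact hj) hij
  obtain ⟨z, ν, hν1, hz, hfixed⟩ := exists_fixed_rep_U hF hn hs σ τ hτ hτ2 p hp.pos hσp hinj hθ
    (toGU m) hmem
  have hν0 : ν ≠ 0 := by
    rintro rfl
    rw [zero_mul] at hν1
    exact zero_ne_one hν1
  have hval : (z * toGU m).1.val = ν • m.1.1 := by
    rw [gu_mul_val, hz, Matrix.smul_mul, Matrix.one_mul, toGU_val]
  have hent : ∀ i j, ∃ s, ι s = (z * toGU m).1.val i j := by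
    intro i j
    apply hιs
    have := congrArg (fun g : ↥(Cfsg.GU n F q) => g.1.val i j) hfixed
    simp only [gmapU_val, Matrix.map_apply] at this
    exact this
  obtain ⟨g₀, hg₀⟩ := exists_mapGU_eq ι τ₀ hτ₀ τ hτ hιτ (z * toGU m) hent
  exact ⟨g₀, ν, hν0, by rw [hg₀, hval]⟩

include hF hn hs hτ₀ hτ hιτ hτ2 hτ1 hιs hp hp2 hσ in
/-- the image of the subfield group is normal in the fixed points -/
theorem jU_norm (k : PSUn n F q) (hk : PhU σ k = k) (s : PSUn n F₀ q₀) :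
    ∃ s' : PSUn n F₀ q₀, jU ι τ₀ hτ₀ τ hτ hιτ hF₀ hn s' =
      k * jU ι τ₀ hτ₀ τ hτ hιτ hF₀ hn s * k⁻¹ := by
  obtain ⟨m, rfl⟩ := prC_surjective k
  obtain ⟨s₀, rfl⟩ := prC_surjective s
  obtain ⟨g₀, ν, hν0, hg₀⟩ := fixed_rep hF hn hs ι τ₀ hτ₀ τ hτ hιτ hτ2 hτ1 σ hιs hp hp2 hσ m hk
  refine ⟨prC (conjSUFun g₀ s₀), ?_⟩
  rw [jU_pr, jU_pr, ← map_inv, ← map_mul, ← map_mul]
  congr 1
  apply su_ext
  rw [mapSU_val, conjSUFun_val, su_mul_val, su_mul_val, mapSU_val, Matrix.map_mul, Matrix.map_mul,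
    hg₀]
  -- the inverse
  have hA : g₀.1.val.map ι * g₀.1⁻¹.val.map ι = 1 := by
    rw [← Matrix.map_mul, ← Units.val_mul, mul_inv_cancel, Units.val_one, map_one_hom]
  have hM : m.1.1 * m⁻¹.1.1 = 1 := by
    rw [← su_mul_val, mul_inv_cancel]
    rfl
  have hC : g₀.1.val.map ι * (ν⁻¹ • m⁻¹.1.1) = 1 := by
    rw [hg₀, Matrix.smul_mul, Matrix.mul_smul, smul_smul, mul_inv_cancel₀ hν0, one_smul, hM]
  have hB : g₀.1⁻¹.val.map ι = ν⁻¹ • m⁻¹.1.1 := by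
    have hA' : g₀.1⁻¹.val.map ι * g₀.1.val.map ι = 1 := mul_eq_one_comm.1 hA
    calc g₀.1⁻¹.val.map ι = g₀.1⁻¹.val.map ι * (g₀.1.val.map ι * (ν⁻¹ • m⁻¹.1.1)) := by
          rw [hC, Matrix.mul_one]
      _ = ν⁻¹ • m⁻¹.1.1 := by rw [← Matrix.mul_assoc, hA', Matrix.one_mul]
  rw [hB, Matrix.smul_mul, Matrix.smul_mul, Matrix.mul_smul, smul_smul, mul_inv_cancel₀ hν0,
    one_smul]

include hF hn hτ₀ hτ hιτ hτ₀2 hτ₀1 in
/-- the image of the subfield group has trivial centraliser -/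
theorem jU_cent (k : PSUn n F q)
    (hk : ∀ s : PSUn n F₀ q₀, k * jU ι τ₀ hτ₀ τ hτ hιτ hF₀ hn s * k⁻¹ =
      jU ι τ₀ hτ₀ τ hτ hιτ hF₀ hn s) : k = 1 := by
  obtain ⟨m, rfl⟩ := prC_surjective k
  have hM' : m⁻¹.1.1 * m.1.1 = 1 := by
    rw [← su_mul_val, inv_mul_cancel]
    rfl
  have hunit : IsUnit m.1.1 := by
    rw [Matrix.isUnit_iff_isUnit_det, m.1.2]
    exact isUnit_one
  obtain ⟨-, c, hc⟩ := centU_matrix_rel τ₀ hτ₀2 hτ₀1 hn ι m.1.1 hunit (RingHom.id F) (by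
    intro s hsU
    have h1 := hk (prC (suOfIsU τ₀ hτ₀ s hsU))
    rw [jU_pr, ← map_inv, ← map_mul, ← map_mul] at h1
    obtain ⟨ζ, hζ⟩ := prC_eq_smul hF (by omega) _ _ h1.symm
    rw [su_mul_val, su_mul_val, mapSU_val, suOfIsU_val] at hζ
    refine ⟨ζ, ?_⟩
    have e : (s.val.map ι).map (RingHom.id F) = s.val.map ι := by
      ext i j
      rfl
    rw [e]
    have := congrArg (fun A => A * m.1.1) hζ
    simp only [Matrix.mul_assoc, hM', Matrix.mul_one, Matrix.smul_mul] at this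
    exact this)
  exact prC_eq_one_of_scalar m c hc

include hF hn hs hτ₀ hτ hιτ hτ₀2 hτ₀1 hισ hιs hσ in
/-- an automorphism fixing the image of the subfield group pointwise is a power of `PhU σ` -/
theorem jU_rigid (hfac : FacU n F q) (w : MulAut (PSUn n F q))
    (hw : ∀ s : PSUn n F₀ q₀, w (jU ι τ₀ hτ₀ τ hτ hιτ hF₀ hn s) =
      jU ι τ₀ hτ₀ τ hτ hιτ hF₀ hn s) : w ^ p = 1 := by
  obtain ⟨h', ρ, rfl⟩ := hfac w
  have hunit : IsUnit h'.1.val := ⟨h'.1, rfl⟩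
  obtain ⟨hρ, c, hc⟩ := centU_matrix_rel τ₀ hτ₀2 hτ₀1 hn ι h'.1.val hunit (ρ : F →+* F) (by
    intro s hsU
    have h1 := hw (prC (suOfIsU τ₀ hτ₀ s hsU))
    rw [jU_pr, MulAut.mul_apply, PhU_pr, DhU_pr] at h1
    obtain ⟨ζ, hζ⟩ := prC_eq_smul hF (by omega) _ _ h1.symm
    rw [conjSUFun_val, fieldSUFun_val, mapSU_val, suOfIsU_val] at hζ
    refine ⟨ζ, ?_⟩
    have hinv : h'.1⁻¹.val * h'.1.val = 1 := by
      rw [← Units.val_mul, inv_mul_cancel, Units.val_one]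
    have := congrArg (fun A => A * h'.1.val) hζ
    simp only [Matrix.mul_assoc, hinv, Matrix.mul_one, Matrix.smul_mul] at this
    exact this)
  have hc0 : c ≠ 0 := by
    rintro rfl
    rw [zero_smul] at hc
    have h1 : h'.1.val * h'.1⁻¹.val = 1 := by
      rw [← Units.val_mul, mul_inv_cancel, Units.val_one]
    rw [hc, Matrix.zero_mul] at h1
    have := congrFun (congrFun h1 ⟨0, by omega⟩) ⟨0, by omega⟩
    rw [Matrix.zero_apply, Matrix.one_apply_eq] at this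
    exact zero_ne_one this
  have hD : (DhU h' : MulAut (PSUn n F q)) = 1 :=
    (DhU_eq_one_iff hF hn hs h').2 ⟨Units.mk0 c hc0, hc⟩
  rw [hD, one_mul]
  have hmem : ρ ∈ Subgroup.zpowers σ := by
    apply mem_zpowers_of_fix
    intro t ht
    obtain ⟨s, rfl⟩ := hιs t ht
    exact hρ s
  obtain ⟨k, rfl⟩ := Subgroup.mem_zpowers_iff.1 hmem
  have hσp : σ ^ p = 1 := by rw [← hσ]; exact pow_orderOf_eq_one σ
  rw [← map_pow, ← zpow_natCast, ← _root_.zpow_mul, mul_comm, _root_.zpow_mul, zpow_natCast, hσp,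
    _root_.one_zpow, map_one]

end main

end Cfsg.Agent.Lib.Helper8.BalU
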