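import Cfsg.Agent.Lib.Helper8.BalU.FC
import Cfsg.Agent.S0283

/-!
# Field automorphisms of `PSU_n`: elements of order `p` in the subfield subgroup (helper8)
-/

set_option autoImplicit false
set_option linter.unusedSectionVars false

namespace Cfsg.Agent.Lib.Helper8.BalU

open Matrix Cfsg Cfsg.Agent.Lib.H7AutPSp Cfsg.Agent.Lib.H7AutPSU Cfsg.Agent.Lib.H7AutPSL
open Cfsg.Agent.Lib.H7BalU Cfsg.Agent.Lib.Helper8.AutSp Cfsg.Agent.Lib.Helper8.BalL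
open Cfsg.Agent.AutPSLCount

universe u v

variable {n : ℕ} {F : Type u} [Field F] {q : ℕ} {F₀ : Type v} [Field F₀] {q₀ : ℕ}

/-! ### permutation matrices -/

section perm

variable (τ₀ : RingAut F₀) (hτ₀ : ∀ s, τ₀ s = s ^ q₀)

theorem permSL_isU (c : ↥(alternatingGroup (Fin n))) : IsU τ₀ (permSL n F₀ c) := by
  unfold IsU
  rw [permSL_val]
  have e : ((c.1⁻¹).permMatrix F₀).map τ₀ = (c.1⁻¹).permMatrix F₀ :=
    PEquiv.map_toMatrix (τ₀ : F₀ →+* F₀) _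
  rw [e, Matrix.transpose_permMatrix, inv_inv, ← Matrix.permMatrix_mul, mul_inv_cancel,
    Matrix.permMatrix_one]

/-- even permutation matrices in `SU_n` -/
def permSU : ↥(alternatingGroup (Fin n)) →* SUn n F₀ q₀ where
  toFun c := suOfIsU τ₀ hτ₀ (permSL n F₀ c) (permSL_isU τ₀ c)
  map_one' := by
    apply su_ext
    rw [suOfIsU_val, map_one]
    rfl
  map_mul' c d := by
    apply su_ext
    rw [su_mul_val, suOfIsU_val, suOfIsU_val, suOfIsU_val, map_mul]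
    rfl

theorem permSU_val (c : ↥(alternatingGroup (Fin n))) :
    (permSU τ₀ hτ₀ c).1.1 = (c.1⁻¹).permMatrix F₀ := rfl

end perm

section main

variable [Fintype F] [Fintype F₀] (hF : Fintype.card F = q ^ 2) (hF₀ : Fintype.card F₀ = q₀ ^ 2)
  (hn : 3 ≤ n) (hs : ¬ (n = 3 ∧ q = 2))
  (ι : F₀ →+* F) (τ₀ : RingAut F₀) (hτ₀ : ∀ s, τ₀ s = s ^ q₀) (τ : RingAut F)
  (hτ : ∀ t, τ t = t ^ q) (hιτ : ∀ s, ι (s ^ q₀) = (ι s) ^ q)
  (hτ2 : τ ^ 2 = 1) (hτ1 : τ ≠ 1) (hτ₀2 : τ₀ ^ 2 = 1) (hτ₀1 : τ₀ ≠ 1)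
  (σ : RingAut F) (hισ : ∀ s, σ (ι s) = ι s) (hιs : ∀ t : F, σ t = t → ∃ s, ι s = t)
  {p : ℕ} (hp : p.Prime) (hp2 : p ≠ 2) (hσ : orderOf σ = p)

include hF hn in
/-- a nontrivial even permutation matrix is not trivial in `PSU_n(F)` -/
theorem jU_permSU_ne_one (c : ↥(alternatingGroup (Fin n))) (hc : c ≠ 1) :
    jU ι τ₀ hτ₀ τ hτ hιτ hF₀ hn (prC (permSU τ₀ hτ₀ c)) ≠ 1 := by
  intro h
  rw [jU_pr] at h
  have hz : mapSU ι τ₀ hτ₀ τ hτ hιτ (permSU τ₀ hτ₀ c) ∈ Subgroup.center (SUn n F q) :=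
    (QuotientGroup.eq_one_iff _).1 h
  obtain ⟨a, ha⟩ := center_SU_scalar hF (by omega) _ hz
  have hc' : c.1⁻¹ ≠ 1 := by
    intro h1
    apply hc
    apply Subtype.ext
    rw [Subgroup.coe_one, ← inv_eq_one]
    exact h1
  obtain ⟨i, hi⟩ : ∃ i, c.1⁻¹ i ≠ i := by
    by_contra hcon
    push Not at hcon
    exact hc' (Equiv.ext hcon)
  have e := congrFun (congrFun ha i) (c.1⁻¹ i)
  rw [mapSU_val, permSU_val, Matrix.map_apply, Matrix.smul_apply, Matrix.one_apply_ne (Ne.symm hi),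
    smul_zero] at e
  have e1 : (c.1⁻¹).permMatrix F₀ i (c.1⁻¹ i) = 1 := by
    simp [Equiv.Perm.permMatrix, PEquiv.toMatrix_apply, Equiv.toPEquiv_apply]
  rw [e1, map_one] at e
  exact one_ne_zero e

include hF hn in
/-- an element of order `p` in the image of `PSU_n(F₀)`, when the odd prime `p` divides `n` -/
theorem exists_order_p_permU (p : ℕ) (hp : p.Prime) (hp2 : p ≠ 2) (hpn : p ∣ n) :
    ∃ s : PSUn n F₀ q₀, orderOf (jU ι τ₀ hτ₀ τ hτ hιτ hF₀ hn s) = p := by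
  classical
  have : Fact p.Prime := ⟨hp⟩
  have hnt : Nontrivial (Fin n) := Fin.nontrivial_iff_two_le.2 (by omega)
  have hple : p ≤ n := Nat.le_of_dvd (by omega) hpn
  have hcard : 2 * Fintype.card ↥(alternatingGroup (Fin n)) = n.factorial := by
    rw [two_mul_card_alternatingGroup, Fintype.card_perm, Fintype.card_fin]
  have hdvd : p ∣ Fintype.card ↥(alternatingGroup (Fin n)) := by
    have h1 : p ∣ 2 * Fintype.card ↥(alternatingGroup (Fin n)) := by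
      rw [hcard]
      exact (Nat.Prime.dvd_factorial hp).2 hple
    exact ((Nat.coprime_primes hp Nat.prime_two).2 hp2).dvd_of_dvd_mul_left h1
  obtain ⟨c, hc⟩ := exists_prime_orderOf_dvd_card p hdvd
  refine ⟨prC (permSU τ₀ hτ₀ c), ?_⟩
  apply orderOf_eq_prime
  · rw [← map_pow, ← map_pow, ← map_pow, ← hc, pow_orderOf_eq_one, map_one, map_one, map_one]
  · apply jU_permSU_ne_one hF hF₀ hn
    intro h1
    rw [h1, orderOf_one] at hc
    exact hp.one_lt.ne hc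

omit [Fintype F] [Fintype F₀] in
/-- elements of `SU_n` differing by a scalar have the same class -/
theorem prC_eq_of_smul (a b : SUn n F q) (c : F) (h : b.1.1 = c • a.1.1) :
    (prC a : PSUn n F q) = prC b := by
  rw [prC_eq_iff]
  apply su_center_of_scalar _ c
  have h3 : a⁻¹.1.1 * a.1.1 = 1 := by
    rw [← su_mul_val, inv_mul_cancel]
    rfl
  rw [su_mul_val, h, Matrix.mul_smul, h3]

omit [Fintype F₀] in
include hτ₀ hτ₀2 in
/-- the determinant of a general unitary matrix has norm one -/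
theorem det_GU_norm (g₀ : ↥(Cfsg.GU n F₀ q₀)) : g₀.1.val.det * τ₀ g₀.1.val.det = 1 := by
  have h1 := (mem_GU_iff τ₀ q₀ hτ₀ g₀.1).1 g₀.2
  have h2 := congrArg Matrix.det h1
  rw [Matrix.det_mul, Matrix.det_transpose, Matrix.det_one] at h2
  have e : (g₀.1.val.map τ₀).det = τ₀ g₀.1.val.det := by
    have := (RingHom.map_det (τ₀ : F₀ →+* F₀) g₀.1.val).symm
    exact this
  rw [e] at h2
  exact h2

include hF hn hs hτ₀ hτ hιτ hτ2 hτ1 hτ₀2 hιs hp hp2 hσ in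
/-- the `n`-th power of a fixed point lies in the image of the subfield group -/
theorem pow_mem_range_jU (y : PSUn n F q) (hy : PhU σ y = y) :
    ∃ s : PSUn n F₀ q₀, jU ι τ₀ hτ₀ τ hτ hιτ hF₀ hn s = y ^ n := by
  obtain ⟨m, rfl⟩ := prC_surjective y
  obtain ⟨g₀, ν, hν0, hg₀⟩ := fixed_rep hF hn hs ι τ₀ hτ₀ τ hτ hιτ hτ2 hτ1 σ hιs hp hp2 hσ m hy
  have hθθ := aut_sq_apply τ₀ hτ₀2
  set δ : F₀ := g₀.1.val.det with hδ
  have hδn := det_GU_norm τ₀ hτ₀ hτ₀2 g₀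
  rw [← hδ] at hδn
  have hδ0 : δ ≠ 0 := by
    rintro h0
    rw [h0, zero_mul] at hδn
    exact zero_ne_one hδn
  have hτδ0 : τ₀ δ ≠ 0 := (map_ne_zero τ₀).2 hδ0
  -- the matrix `δ⁻¹ g₀ⁿ`
  have hG := (mem_GU_iff τ₀ q₀ hτ₀ (g₀ ^ n).1).1 (g₀ ^ n).2
  have hGv : (g₀ ^ n).1.val = g₀.1.val ^ n := by
    rw [Subgroup.coe_pow, Units.val_pow_eq_pow_val]
  rw [hGv] at hG
  have hdet : (δ⁻¹ • g₀.1.val ^ n).det = 1 := by
    rw [Matrix.det_smul, Matrix.det_pow, Fintype.card_fin, ← hδ, inv_pow, inv_mul_cancel₀]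
    exact pow_ne_zero _ hδ0
  have hU : IsU τ₀ (⟨δ⁻¹ • g₀.1.val ^ n, hdet⟩ : SLn n F₀) := by
    unfold IsU
    show (δ⁻¹ • g₀.1.val ^ n) * ((δ⁻¹ • g₀.1.val ^ n).map τ₀)ᵀ = 1
    have e : (δ⁻¹ • g₀.1.val ^ n).map τ₀ = (τ₀ δ)⁻¹ • (g₀.1.val ^ n).map τ₀ := by
      ext i j
      rw [Matrix.map_apply, Matrix.smul_apply, Matrix.smul_apply, Matrix.map_apply, smul_eq_mul,
        smul_eq_mul, map_mul, map_inv₀]
    rw [e, Matrix.transpose_smul, Matrix.smul_mul, Matrix.mul_smul, smul_smul, hG]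
    have : δ⁻¹ * (τ₀ δ)⁻¹ = 1 := by
      rw [← mul_inv, hδn, inv_one]
    rw [this, one_smul]
  refine ⟨prC (suOfIsU τ₀ hτ₀ _ hU), ?_⟩
  rw [jU_pr, ← map_pow]
  symm
  apply prC_eq_of_smul _ _ ((ι δ)⁻¹ * ν ^ n)
  rw [mapSU_val]
  show (δ⁻¹ • g₀.1.val ^ n).map ι = _
  have e1 : (δ⁻¹ • g₀.1.val ^ n).map ι = (ι δ)⁻¹ • (g₀.1.val.map ι) ^ n := by
    have e2 : (g₀.1.val ^ n).map ι = (g₀.1.val.map ι) ^ n := by
      have := map_pow (ι.mapMatrix : Matrix (Fin n) (Fin n) F₀ →+* Matrix (Fin n) (Fin n) F)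
        g₀.1.val n
      exact this
    rw [← e2]
    ext i j
    rw [Matrix.map_apply, Matrix.smul_apply, Matrix.smul_apply, Matrix.map_apply, smul_eq_mul,
      smul_eq_mul, map_mul, map_inv₀]
  have e3 : (m ^ n).1.1 = m.1.1 ^ n := by
    rw [Subgroup.coe_pow, Matrix.SpecialLinearGroup.coe_pow]
  rw [e1, hg₀, smul_pow, smul_smul, e3]

include hF hn hs hτ₀ hτ hιτ hτ2 hτ1 hτ₀2 hιs hp hp2 hσ in
/-- an element of order `p` in the image of the subfield group -/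
theorem exists_order_p_jU (hdiv : p ∣ Nat.card ↥(fixG (PhU σ : MulAut (PSUn n F q)))) :
    ∃ s : PSUn n F₀ q₀, orderOf (jU ι τ₀ hτ₀ τ hτ hιτ hF₀ hn s) = p := by
  classical
  have : Fact p.Prime := ⟨hp⟩
  by_cases hpn : p ∣ n
  · exact exists_order_p_permU hF hF₀ hn ι τ₀ hτ₀ τ hτ hιτ p hp hp2 hpn
  · obtain ⟨y, hy⟩ := exists_prime_orderOf_dvd_card' (G := ↥(fixG (PhU σ : MulAut (PSUn n F q))))
      p hdiv
    have hyord : orderOf (y : PSUn n F q) = p := by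
      rw [← hy]
      exact (Subgroup.orderOf_coe y)
    obtain ⟨s₁, hs₁⟩ := pow_mem_range_jU hF hF₀ hn hs ι τ₀ hτ₀ τ hτ hιτ hτ2 hτ1 hτ₀2 σ hιs hp hp2 hσ
      (y : PSUn n F q) y.2
    refine ⟨s₁, ?_⟩
    rw [hs₁]
    have hcop : (orderOf (y : PSUn n F q)).Coprime n := by
      rw [hyord]
      exact (Nat.Prime.coprime_iff_not_dvd hp).2 hpn
    rw [hcop.orderOf_pow, hyord]

end main

end Cfsg.Agent.Lib.Helper8.BalU
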