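import Cfsg.Agent.Lib.Helper8.BalU.FD

/-!
# Field automorphisms of odd prime order of `PSU_n`: trivial core (helper8)

If the odd prime `p ≠ char F` divides the number of fixed points of the standard field
automorphism `PhU σ` of order `p` of `PSU_n(F)`, then a `p'`-group of automorphisms commuting with
`PhU σ` and normalised by the inner automorphisms from its fixed points is trivial.  This file: the
generic case (the subfield group `PSU_n(F₀)` is simple).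
-/

set_option autoImplicit false
set_option linter.unusedSectionVars false

namespace Cfsg.Agent.Lib.Helper8.BalU

open Matrix Cfsg Cfsg.Agent.Lib.H7AutPSp Cfsg.Agent.Lib.H7AutPSU Cfsg.Agent.Lib.H7AutPSL
open Cfsg.Agent.Lib.H7BalU Cfsg.Agent.Lib.Helper8.AutSp Cfsg.Agent.Lib.Helper8.BalL
open Cfsg.Agent.AutPSLCount

universe u v

variable {n : ℕ} {F : Type u} [Field F] {q : ℕ} {F₀ : Type v} [Field F₀] {q₀ : ℕ}

section main

variable [Fintype F] [Fintype F₀] (hF : Fintype.card F = q ^ 2) (hF₀ : Fintype.card F₀ = q₀ ^ 2)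
  (hn : 3 ≤ n) (hs : ¬ (n = 3 ∧ q = 2))
  (ι : F₀ →+* F) (τ₀ : RingAut F₀) (hτ₀ : ∀ s, τ₀ s = s ^ q₀) (τ : RingAut F)
  (hτ : ∀ t, τ t = t ^ q) (hιτ : ∀ s, ι (s ^ q₀) = (ι s) ^ q)
  (hτ2 : τ ^ 2 = 1) (hτ1 : τ ≠ 1) (hτ₀2 : τ₀ ^ 2 = 1) (hτ₀1 : τ₀ ≠ 1)
  (σ : RingAut F) (hισ : ∀ s, σ (ι s) = ι s) (hιs : ∀ t : F, σ t = t → ∃ s, ι s = t)
  {p : ℕ} [hpf : Fact p.Prime] (hp2 : p ≠ 2) (hσ : orderOf σ = p)

include hF hF₀ hn hs hτ₀ hτ hιτ hτ2 hτ1 hτ₀2 hτ₀1 hισ hιs hp2 hσ in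
/-- the generic case: the subfield group `PSU_n(F₀)` is simple -/
theorem core_trivial_field_generic (hexc : ¬ (n = 3 ∧ q₀ = 2))
    (hfac : FacU n F q) (hZ : Subgroup.center (PSUn n F q) = ⊥)
    (hdiv : p ∣ Nat.card ↥(fixG (PhU σ : MulAut (PSUn n F q))))
    (W : Subgroup (MulAut (PSUn n F q))) (hWcop : (Nat.card ↥W).Coprime p)
    (hWcent : ∀ w ∈ W, w * PhU σ = PhU σ * w)
    (hWnorm : ∀ k : PSUn n F q, (PhU σ : MulAut (PSUn n F q)) k = k → ∀ w ∈ W,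
      MulAut.conj k * w * (MulAut.conj k)⁻¹ ∈ W) :
    W = ⊥ := by
  have hp : p.Prime := hpf.out
  have hsimple : IsSimpleGroup (PSUn n F₀ q₀) := Cfsg.Agent.S0283.result hF₀ n hn hexc
  apply Cfsg.Agent.Lib.Helper8.Bal.core_trivial_abstract hZ (PhU σ)
    (jU ι τ₀ hτ₀ τ hτ hιτ hF₀ hn) (PhU_jU ι τ₀ hτ₀ τ hτ hιτ hF₀ hn σ hισ)
    (jU_norm hF hF₀ hn hs ι τ₀ hτ₀ τ hτ hιτ hτ2 hτ1 σ hιs hp hp2 hσ) ⊤ ?_
    (jU_cent hF hF₀ hn ι τ₀ hτ₀ τ hτ hιτ hτ₀2 hτ₀1) W hWcop hWcent hWnorm ?_ ?_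
  · intro N hN
    rcases hN.eq_bot_or_eq_top with h | h
    · left
      intro x hx
      rw [h, Subgroup.mem_bot] at hx
      rw [hx, map_one]
    · right
      rw [h]
  · intro w _ hw
    exact jU_rigid hF hF₀ hn hs ι τ₀ hτ₀ τ hτ hιτ hτ₀2 hτ₀1 σ hισ hιs hσ hfac w hw
  · obtain ⟨s, hs'⟩ := exists_order_p_jU hF hF₀ hn hs ι τ₀ hτ₀ τ hτ hιτ hτ2 hτ1 hτ₀2 σ hιs hp hp2
      hσ hdiv
    exact ⟨s, Subgroup.mem_top s, hs'⟩

end main

/-- the fixed points of a standard field automorphism of `PSU_n` are not trivial -/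
theorem fixG_PhU_ne_bot {F : Type*} [Field F] [Fintype F] {n q : ℕ}
    (hF : Fintype.card F = q ^ 2) (hn : 3 ≤ n) (σ : RingAut F) :
    fixG (PhU σ : MulAut (PSUn n F q)) ≠ ⊥ := by
  classical
  obtain ⟨τ, hτ, -, -⟩ := exists_frobAut hF
  intro h
  -- a nontrivial even permutation
  have hcard : 2 * Fintype.card ↥(alternatingGroup (Fin n)) = n.factorial := by
    have hnt : Nontrivial (Fin n) := Fin.nontrivial_iff_two_le.2 (by omega)
    rw [two_mul_card_alternatingGroup, Fintype.card_perm, Fintype.card_fin]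
  have h6 : 6 ≤ n.factorial := by
    calc 6 = Nat.factorial 3 := by norm_num [Nat.factorial]
      _ ≤ n.factorial := Nat.factorial_le hn
  have hnt : Nontrivial ↥(alternatingGroup (Fin n)) := by
    rw [← Fintype.one_lt_card_iff_nontrivial]
    omega
  obtain ⟨c, hc⟩ := exists_ne (1 : ↥(alternatingGroup (Fin n)))
  have hmem : (prC (permSU τ hτ c) : PSUn n F q) ∈ fixG (PhU σ : MulAut (PSUn n F q)) := by
    rw [mem_fixG, PhU_pr]
    congr 1
    apply su_ext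
    rw [fieldSUFun_val, permSU_val]
    exact PEquiv.map_toMatrix (σ : F →+* F) _
  rw [h, Subgroup.mem_bot] at hmem
  have hz : permSU τ hτ c ∈ Subgroup.center (SUn n F q) := (QuotientGroup.eq_one_iff _).1 hmem
  obtain ⟨a, ha⟩ := center_SU_scalar hF (by omega) _ hz
  have hc' : c.1⁻¹ ≠ 1 := by
    intro h1
    apply hc
    apply Subtype.ext
    rw [Subgroup.coe_one, ← inv_eq_one]
    exact h1
  obtain ⟨i, hi⟩ : ∃ i, c.1⁻¹ i ≠ i := by
    by_contra hcon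
    push Not at hcon
    exact hc' (Equiv.ext hcon)
  have e := congrFun (congrFun ha i) (c.1⁻¹ i)
  rw [permSU_val, Matrix.smul_apply, Matrix.one_apply_ne (Ne.symm hi), smul_zero] at e
  have e1 : (c.1⁻¹).permMatrix F i (c.1⁻¹ i) = 1 := by
    simp [Equiv.Perm.permMatrix, PEquiv.toMatrix_apply, Equiv.toPEquiv_apply]
  rw [e1] at e
  exact one_ne_zero e

end Cfsg.Agent.Lib.Helper8.BalU
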