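import Cfsg.Agent.Lib.Helper8.BalU.FE

/-!
# Field automorphisms of odd prime order of `PSU_n`: trivial core, non-exceptional case (helper8)

The statement for the fixed field of `σ`; the case `(n, q) = (3, 2^p)` (where the subfield group
`PSU_3(2)` is not simple) is excluded here and treated separately.
-/

set_option autoImplicit false

namespace Cfsg.Agent.Lib.Helper8.BalU

open Matrix Cfsg Cfsg.Agent.Lib.H7AutPSp Cfsg.Agent.Lib.H7AutPSU Cfsg.Agent.Lib.H7AutPSL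
open Cfsg.Agent.Lib.H7BalU Cfsg.Agent.Lib.Helper8.AutSp Cfsg.Agent.Lib.Helper8.BalL

/-- the data attached to the fixed field of an automorphism of odd prime order -/
theorem exists_subfield_data {F : Type*} [Field F] [Fintype F] {q : ℕ}
    (hF : Fintype.card F = q ^ 2) {p : ℕ} (hp : p.Prime) (hp2 : p ≠ 2) (σ : RingAut F)
    (hσ : orderOf σ = p) [Fintype ↥(fixSub σ)] :
    ∃ q₀ : ℕ, Fintype.card ↥(fixSub σ) = q₀ ^ 2 ∧ q = q₀ ^ p ∧
      ∀ s : ↥(fixSub σ), fixι σ (s ^ q₀) = (fixι σ s) ^ q := by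
  have hι : ∀ t : F, σ t = t ↔ ∃ s, fixι σ s = t := by
    intro t
    constructor
    · exact fixι_surj σ t
    · rintro ⟨s, rfl⟩
      exact fixι_fixed σ s
  obtain ⟨q₀, hF₀, hq⟩ := exists_q0 hF σ hp hp2 hσ (fixι σ) hι
  exact ⟨q₀, hF₀, hq, fun s => iota_frob hF₀ p (hp.odd_of_ne_two hp2) hq (fixι σ) s⟩

/-- **field automorphisms of odd prime order of `PSU_n(F)`**, outside the case `PSU_3(2^p)` -/
theorem coreTrivialU_field_nonexc {F : Type*} [Field F] [Fintype F] {n q r : ℕ} [Fact r.Prime]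
    [CharP F r]
    (hF : Fintype.card F = q ^ 2) (hn : 3 ≤ n) (hs : ¬ (n = 3 ∧ q = 2))
    (hfac : FacU n F q) (hZ : Subgroup.center (PSUn n F q) = ⊥)
    {p : ℕ} [Fact p.Prime] (hpr : p ≠ r) (hp2 : p ≠ 2) (σ : RingAut F) (hσ : orderOf σ = p)
    (hdiv : p ∣ Nat.card ↥(fixG (PhU σ : MulAut (PSUn n F q))))
    (hexc : ¬ (n = 3 ∧ q = 2 ^ p)) :
    CoreTrivialU (PhU σ : MulAut (PSUn n F q)) p := by
  classical
  have hp : p.Prime := Fact.out
  intro W hWcop hWcent hWnorm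
  obtain ⟨τ, hτ, hτ2, hτ1⟩ := exists_frobAut hF
  let _ : Fintype ↥(fixSub σ) := Fintype.ofFinite _
  obtain ⟨q₀, hF₀, hq, hιτ⟩ := exists_subfield_data hF hp hp2 σ hσ
  obtain ⟨τ₀, hτ₀, hτ₀2, hτ₀1⟩ := exists_frobAut hF₀
  have hexc' : ¬ (n = 3 ∧ q₀ = 2) := by
    rintro ⟨h3, h2⟩
    exact hexc ⟨h3, by rw [hq, h2]⟩
  exact core_trivial_field_generic hF hF₀ hn hs (fixι σ) τ₀ hτ₀ τ hτ hιτ hτ2 hτ1 hτ₀2 hτ₀1 σ
    (fixι_fixed σ) (fixι_surj σ) hp2 hσ hexc' hfac hZ hdiv W hWcop hWcent hWnorm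

end Cfsg.Agent.Lib.Helper8.BalU
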