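import Cfsg.Agent.Lib.Helper8.BalU.FF
import Cfsg.Agent.Lib.Helper8.BalU.Exc

/-!
# Field automorphisms of odd prime order of `PSU_n`: trivial core (helper8)

The exceptional case `PSU_3(2^p)` (the subfield group `PSU_3(2)` is not simple) and the final
statement.
-/

set_option autoImplicit false
set_option linter.unusedSectionVars false

namespace Cfsg.Agent.Lib.Helper8.BalU

open Matrix Cfsg Cfsg.Agent.Lib.H7AutPSp Cfsg.Agent.Lib.H7AutPSU Cfsg.Agent.Lib.H7AutPSL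
open Cfsg.Agent.Lib.H7BalU Cfsg.Agent.Lib.Helper8.AutSp Cfsg.Agent.Lib.Helper8.BalL
open Cfsg.Agent.AutPSLCount

universe u v

variable {n : ℕ} {F : Type u} [Field F] {q : ℕ} {F₀ : Type v} [Field F₀] {q₀ : ℕ}

section main

variable [Fintype F] [Fintype F₀] (hF : Fintype.card F = q ^ 2) (hF₀ : Fintype.card F₀ = q₀ ^ 2)
  (hn : 3 ≤ n) (hs : ¬ (n = 3 ∧ q = 2))
  (ι : F₀ →+* F) (τ₀ : RingAut F₀) (hτ₀ : ∀ s, τ₀ s = s ^ q₀) (τ : RingAut F)
  (hτ : ∀ t, τ t = t ^ q) (hιτ : ∀ s, ι (s ^ q₀) = (ι s) ^ q)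
  (hτ2 : τ ^ 2 = 1) (hτ1 : τ ≠ 1) (hτ₀2 : τ₀ ^ 2 = 1) (hτ₀1 : τ₀ ≠ 1)
  (σ : RingAut F) (hισ : ∀ s, σ (ι s) = ι s) (hιs : ∀ t : F, σ t = t → ∃ s, ι s = t)
  {p : ℕ} [hpf : Fact p.Prime] (hp2 : p ≠ 2) (hσ : orderOf σ = p)

include hF in
/-- the map `PSU_n(F₀) → PSU_n(F)` is injective -/
theorem jU_injective : Function.Injective (jU ι τ₀ hτ₀ τ hτ hιτ hF₀ hn) := by
  rw [injective_iff_map_eq_one]
  intro x hx
  obtain ⟨s, rfl⟩ := prC_surjective x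
  rw [jU_pr] at hx
  have hz : mapSU ι τ₀ hτ₀ τ hτ hιτ s ∈ Subgroup.center (SUn n F q) :=
    (QuotientGroup.eq_one_iff _).1 hx
  obtain ⟨c, hc⟩ := center_SU_scalar hF (by omega) _ hz
  rw [mapSU_val] at hc
  apply (QuotientGroup.eq_one_iff s).2
  apply su_center_of_scalar s (s.1.1 ⟨0, by omega⟩ ⟨0, by omega⟩)
  ext i j
  have e := congrFun (congrFun hc i) j
  have e0 := congrFun (congrFun hc ⟨0, by omega⟩) ⟨0, by omega⟩
  rw [Matrix.map_apply, Matrix.smul_apply, smul_eq_mul] at e e0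
  rw [Matrix.one_apply_eq, mul_one] at e0
  rw [Matrix.smul_apply, smul_eq_mul]
  apply ι.injective
  rw [e, map_mul, e0, Matrix.one_apply, Matrix.one_apply]
  split_ifs
  · rw [map_one]
  · rw [map_zero]

include hF hF₀ hn hs hτ₀ hτ hιτ hτ2 hτ1 hτ₀2 hτ₀1 hισ hιs hp2 hσ in
/-- the exceptional case: the subfield group is `PSU_3(2)` -/
theorem core_trivial_field_exc (hexc : n = 3 ∧ q₀ = 2)
    (hfac : FacU n F q) (hZ : Subgroup.center (PSUn n F q) = ⊥)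
    (hdiv : p ∣ Nat.card ↥(fixG (PhU σ : MulAut (PSUn n F q))))
    (W : Subgroup (MulAut (PSUn n F q))) (hWcop : (Nat.card ↥W).Coprime p)
    (hWcent : ∀ w ∈ W, w * PhU σ = PhU σ * w)
    (hWnorm : ∀ k : PSUn n F q, (PhU σ : MulAut (PSUn n F q)) k = k → ∀ w ∈ W,
      MulAut.conj k * w * (MulAut.conj k)⁻¹ ∈ W) :
    W = ⊥ := by
  classical
  have hp : p.Prime := hpf.out
  obtain ⟨rfl, rfl⟩ := hexc
  have hF₀4 : Fintype.card F₀ = 4 := by rw [hF₀]; norm_num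
  have hinj := jU_injective hF hF₀ hn ι τ₀ hτ₀ τ hτ hιτ
  have hcard : Nat.card (PSUn 3 F₀ 2) = 72 := (Cfsg.Agent.S0282.result hF₀4).1
  -- `p = 3`
  have hp3 : p = 3 := by
    by_contra hne
    obtain ⟨y, hy⟩ := exists_prime_orderOf_dvd_card' (G := ↥(fixG (PhU σ : MulAut (PSUn 3 F q))))
      p hdiv
    have hyord : orderOf (y : PSUn 3 F q) = p := by
      rw [← hy]
      exact (Subgroup.orderOf_coe y)
    obtain ⟨s₁, hs₁⟩ := pow_mem_range_jU hF hF₀ hn hs ι τ₀ hτ₀ τ hτ hιτ hτ2 hτ1 hτ₀2 σ hιs hp hp2 hσ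
      (y : PSUn 3 F q) y.2
    have hcop : (orderOf (y : PSUn 3 F q)).Coprime 3 := by
      rw [hyord]
      exact (Nat.coprime_primes hp Nat.prime_three).2 hne
    have h1 : orderOf s₁ = p := by
      rw [← orderOf_injective _ hinj s₁, hs₁, hcop.orderOf_pow, hyord]
    have h2 : p ∣ 72 := by
      rw [← hcard, ← h1]
      exact orderOf_dvd_natCard s₁
    have h3 : p ∣ 2 ^ 3 * 3 ^ 2 := h2
    rcases (Nat.Prime.dvd_mul hp).1 h3 with h4 | h4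
    · exact hp2 ((Nat.prime_dvd_prime_iff_eq hp Nat.prime_two).1 (hp.dvd_of_dvd_pow h4))
    · exact hne ((Nat.prime_dvd_prime_iff_eq hp Nat.prime_three).1 (hp.dvd_of_dvd_pow h4))
  obtain ⟨M, hM, s, hsM, hs3⟩ := exists_min_normal_psu32 hF₀4
  apply Cfsg.Agent.Lib.Helper8.Bal.core_trivial_abstract hZ (PhU σ)
    (jU ι τ₀ hτ₀ τ hτ hιτ hF₀ hn) (PhU_jU ι τ₀ hτ₀ τ hτ hιτ hF₀ hn σ hισ)
    (jU_norm hF hF₀ hn hs ι τ₀ hτ₀ τ hτ hιτ hτ2 hτ1 σ hιs hp hp2 hσ) M ?_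
    (jU_cent hF hF₀ hn ι τ₀ hτ₀ τ hτ hιτ hτ₀2 hτ₀1) W hWcop hWcent hWnorm ?_ ?_
  · intro N hN
    rcases hM N hN with h | h
    · left
      intro x hx
      rw [h, Subgroup.mem_bot] at hx
      rw [hx, map_one]
    · right
      exact h
  · intro w _ hw
    exact jU_rigid hF hF₀ hn hs ι τ₀ hτ₀ τ hτ hιτ hτ₀2 hτ₀1 σ hισ hιs hσ hfac w hw
  · refine ⟨s, hsM, ?_⟩
    rw [orderOf_injective _ hinj s, hs3, hp3]

end main

/-- **field automorphisms of odd prime order of `PSU_n(F)`**: if the odd prime `p ≠ char F`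
divides the number of fixed points of the standard field automorphism `PhU σ` of order `p`, then a
`p'`-group of automorphisms commuting with `PhU σ` and normalised by the inner automorphisms from
its fixed points is trivial -/
theorem coreTrivialU_field {F : Type*} [Field F] [Fintype F] {n q r : ℕ} [Fact r.Prime]
    [CharP F r]
    (hF : Fintype.card F = q ^ 2) (hn : 3 ≤ n) (hs : ¬ (n = 3 ∧ q = 2))
    (hfac : FacU n F q) (hZ : Subgroup.center (PSUn n F q) = ⊥)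
    {p : ℕ} [Fact p.Prime] (hpr : p ≠ r) (hp2 : p ≠ 2) (σ : RingAut F) (hσ : orderOf σ = p)
    (hdiv : p ∣ Nat.card ↥(fixG (PhU σ : MulAut (PSUn n F q)))) :
    CoreTrivialU (PhU σ : MulAut (PSUn n F q)) p := by
  classical
  have hp : p.Prime := Fact.out
  intro W hWcop hWcent hWnorm
  obtain ⟨τ, hτ, hτ2, hτ1⟩ := exists_frobAut hF
  let _ : Fintype ↥(fixSub σ) := Fintype.ofFinite _
  obtain ⟨q₀, hF₀, hq, hιτ⟩ := exists_subfield_data hF hp hp2 σ hσ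
  obtain ⟨τ₀, hτ₀, hτ₀2, hτ₀1⟩ := exists_frobAut hF₀
  by_cases hexc : n = 3 ∧ q₀ = 2
  · exact core_trivial_field_exc hF hF₀ hn hs (fixι σ) τ₀ hτ₀ τ hτ hιτ hτ2 hτ1 hτ₀2 hτ₀1 σ
      (fixι_fixed σ) (fixι_surj σ) hp2 hσ hexc hfac hZ hdiv W hWcop hWcent hWnorm
  · exact core_trivial_field_generic hF hF₀ hn hs (fixι σ) τ₀ hτ₀ τ hτ hιτ hτ2 hτ1 hτ₀2 hτ₀1 σ
      (fixι_fixed σ) (fixι_surj σ) hp2 hσ hexc hfac hZ hdiv W hWcop hWcent hWnorm

end Cfsg.Agent.Lib.Helper8.BalU
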