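import Cfsg.Agent.Lib.Helper8.Q8Ext
import Mathlib

/-!
# The minimal normal subgroup of `3² : Q₈` (helper8)

In a group of order 72 with a normal elementary abelian subgroup `N₉` of order 9, quotient `Q₈`,
where the square of an element of order 4 inverts `N₉`, every nontrivial normal subgroup contains
`N₉`.
-/

set_option autoImplicit false

namespace Cfsg.Agent.Lib.Helper8.BalU

open Cfsg.Agent.Lib.Helper8.Q8Ext

theorem q8_invol : ∀ x : QuaternionGroup 2, x ≠ 1 → x ^ 2 = 1 → x = QuaternionGroup.a 2 := by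
  decide

theorem three_not_dvd_sq_add_one (k : ℤ) : ¬ (3 : ℤ) ∣ k * k + 1 := by
  intro h
  have h1 : (k * k + 1) % 3 = 0 := Int.emod_eq_zero_of_dvd h
  have h2 : k % 3 = 0 ∨ k % 3 = 1 ∨ k % 3 = 2 := by omega
  rcases h2 with h2 | h2 | h2
  · have : (k * k + 1) % 3 = 1 := by
      rw [Int.add_emod, Int.mul_emod, h2]; rfl
    omega
  · have : (k * k + 1) % 3 = 2 := by
      rw [Int.add_emod, Int.mul_emod, h2]; rfl
    omega
  · have : (k * k + 1) % 3 = 2 := by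
      rw [Int.add_emod, Int.mul_emod, h2]; rfl
    omega

variable {G : Type*} [Group G]

theorem conj_sq (a x : G) : a ^ 2 * x * (a ^ 2)⁻¹ = a * (a * x * a⁻¹) * a⁻¹ := by
  rw [pow_two, mul_inv_rev]
  simp only [mul_assoc]

/-- the abstract dichotomy -/
theorem dichotomy_of_inverting [Finite G] (N₉ : Subgroup G) [hN₉ : N₉.Normal]
    (h9 : Nat.card N₉ = 9) (hexp : ∀ x ∈ N₉, x ^ 3 = 1) (hne : N₉ ≠ ⊥)
    (ψ : G ⧸ N₉ ≃* QuaternionGroup 2) (a : G) (ha : a ^ 4 = 1)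
    (hinv : ∀ n ∈ N₉, a ^ 2 * n * (a ^ 2)⁻¹ = n⁻¹) :
    ∀ N : Subgroup G, N.Normal → N = ⊥ ∨ N₉ ≤ N := by
  classical
  intro N hN
  have hcomm : ∀ x ∈ N₉, ∀ y ∈ N₉, x * y = y * x := by
    have : Fact (Nat.Prime 3) := ⟨by norm_num⟩
    have hc := IsPGroup.isMulCommutative_of_card_eq_prime_sq (G := ↥N₉) (p := 3) (by rw [h9]; norm_num)
    intro x hx y hy
    have := hc.is_comm.comm ⟨x, hx⟩ ⟨y, hy⟩
    exact congrArg Subtype.val this
  -- elements of `N₉` fixed by `a²` are trivial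
  have hfixed : ∀ n ∈ N₉, a ^ 2 * n * (a ^ 2)⁻¹ = n → n = 1 := by
    intro n hn hfix
    have h1 : n = n⁻¹ := by
      calc n = a ^ 2 * n * (a ^ 2)⁻¹ := hfix.symm
        _ = n⁻¹ := hinv n hn
    have h2 : n ^ 2 = 1 := by
      rw [pow_two]
      nth_rewrite 2 [h1]
      exact mul_inv_cancel n
    have h3 := hexp n hn
    calc n = n ^ 3 * (n ^ 2)⁻¹ := by group
      _ = 1 := by rw [h3, h2, inv_one, one_mul]
  -- `a²` is not in `N₉`
  have ha2 : a ^ 2 ∉ N₉ := by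
    intro hmem
    apply hne
    rw [Subgroup.eq_bot_iff_forall]
    intro n hn
    apply hfixed n hn
    rw [hcomm _ hmem _ hn, mul_inv_cancel_right]
  by_cases hK : N ⊓ N₉ = ⊥
  · -- `N` meets `N₉` trivially
    left
    by_contra hNne
    -- `N` embeds in the quotient
    let f : ↥N →* QuaternionGroup 2 :=
      (ψ.toMonoidHom.comp (QuotientGroup.mk' N₉)).comp N.subtype
    have hf : Function.Injective f := by
      rw [injective_iff_map_eq_one]
      intro t ht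
      have h1 : (QuotientGroup.mk' N₉) (t : G) = 1 := by
        have : ψ ((QuotientGroup.mk' N₉) (t : G)) = 1 := ht
        exact ψ.injective (by rw [this, map_one])
      have h2 : (t : G) ∈ N₉ := (QuotientGroup.eq_one_iff _).1 h1
      have h3 : (t : G) ∈ N ⊓ N₉ := ⟨t.2, h2⟩
      rw [hK, Subgroup.mem_bot] at h3
      exact Subtype.ext h3
    have hdvd : Nat.card ↥N ∣ 8 := by
      have := Subgroup.card_dvd_of_injective f hf
      rwa [card_q8] at this
    have hcard1 : Nat.card ↥N ≠ 1 := by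
      intro h1
      exact hNne (Subgroup.eq_bot_of_card_eq N h1)
    have h2dvd : 2 ∣ Nat.card ↥N := by
      have hdvd' : Nat.card ↥N ∣ 2 ^ 3 := hdvd
      obtain ⟨k, hk, hk2⟩ := (Nat.dvd_prime_pow Nat.prime_two (m := 3)).1 hdvd'
      rw [hk2]
      have : k ≠ 0 := by
        rintro rfl
        exact hcard1 (by rw [hk2, pow_zero])
      exact dvd_pow_self 2 this
    have : Fact (Nat.Prime 2) := ⟨Nat.prime_two⟩
    obtain ⟨t, ht⟩ := exists_prime_orderOf_dvd_card' (G := ↥N) 2 h2dvd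
    have ht2 : t ^ 2 = 1 := by rw [← ht]; exact pow_orderOf_eq_one t
    have ht1 : t ≠ 1 := by
      intro h1
      rw [h1, orderOf_one] at ht
      omega
    -- the image of `t` is the involution of `Q₈`
    have e1 : f t = QuaternionGroup.a 2 := by
      apply q8_invol
      · intro h1
        exact ht1 (hf (by rw [h1, map_one]))
      · rw [← map_pow, ht2, map_one]
    have e2 : ψ ((QuotientGroup.mk' N₉) (a ^ 2)) = QuaternionGroup.a 2 := by
      apply q8_invol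
      · intro h1
        have : (QuotientGroup.mk' N₉) (a ^ 2) = 1 := ψ.injective (by rw [h1, map_one])
        exact ha2 ((QuotientGroup.eq_one_iff _).1 this)
      · rw [← map_pow, ← map_pow, ← pow_mul, ha, map_one, map_one]
    have e3 : (QuotientGroup.mk' N₉) (t : G) = (QuotientGroup.mk' N₉) (a ^ 2) := by
      apply ψ.injective
      rw [e2]
      exact e1
    have e4 : (a ^ 2)⁻¹ * (t : G) ∈ N₉ := by
      have := QuotientGroup.eq.1 e3.symm
      exact this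
    -- `t` centralises `N₉`
    have hcent : ∀ n ∈ N₉, (t : G) * n = n * (t : G) := by
      intro n hn
      have h1 : (t : G) * n * (t : G)⁻¹ * n⁻¹ ∈ N ⊓ N₉ := by
        constructor
        · have : (t : G) * n * (t : G)⁻¹ * n⁻¹ = (t : G) * (n * (t : G)⁻¹ * n⁻¹) := by group
          rw [this]
          exact N.mul_mem t.2 (hN.conj_mem _ (N.inv_mem t.2) n)
        · exact N₉.mul_mem (hN₉.conj_mem _ hn _) (N₉.inv_mem hn)
      rw [hK, Subgroup.mem_bot] at h1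
      calc (t : G) * n = ((t : G) * n * (t : G)⁻¹ * n⁻¹) * (n * (t : G)) := by group
        _ = n * (t : G) := by rw [h1, one_mul]
    -- hence so does `a²`
    apply hne
    rw [Subgroup.eq_bot_iff_forall]
    intro n hn
    apply hfixed n hn
    set n₀ := (a ^ 2)⁻¹ * (t : G) with hn₀
    have ht' : (t : G) = a ^ 2 * n₀ := by rw [hn₀]; group
    have h1 := hcent n hn
    rw [ht'] at h1
    have h2 : n₀ * n = n * n₀ := hcomm _ e4 _ hn
    calc a ^ 2 * n * (a ^ 2)⁻¹ = (a ^ 2 * n₀ * n) * n₀⁻¹ * (a ^ 2)⁻¹ := by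
          rw [mul_assoc (a ^ 2) n₀ n, h2]; group
      _ = (n * (a ^ 2 * n₀)) * n₀⁻¹ * (a ^ 2)⁻¹ := by rw [h1]
      _ = n := by group
  · -- `N` meets `N₉`
    right
    have hKn : (N ⊓ N₉).Normal := inferInstance
    have hKle : N ⊓ N₉ ≤ N₉ := inf_le_right
    have hdvd : Nat.card ↥(N ⊓ N₉) ∣ 9 := h9 ▸ Subgroup.card_dvd_of_le hKle
    have hdvd' : Nat.card ↥(N ⊓ N₉) ∣ 3 ^ 2 := hdvd
    obtain ⟨k, hk, hk2⟩ := (Nat.dvd_prime_pow Nat.prime_three (m := 2)).1 hdvd'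
    have hk0 : k ≠ 0 := by
      rintro rfl
      exact hK (Subgroup.eq_bot_of_card_eq _ (by rw [hk2, pow_zero]))
    have hk12 : k = 1 ∨ k = 2 := by omega
    rcases hk12 with rfl | rfl
    · -- order three: impossible
      exfalso
      obtain ⟨x, hx1⟩ := (Subgroup.ne_bot_iff_exists_ne_one).1 hK
      have hxN₉ : (x : G) ∈ N₉ := hKle x.2
      have hx3 : (x : G) ^ 3 = 1 := hexp _ hxN₉
      have hx1' : (x : G) ≠ 1 := by
        intro h
        exact hx1 (Subtype.ext h)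
      have : Fact (Nat.Prime 3) := ⟨Nat.prime_three⟩
      have ho : orderOf (x : G) = 3 := orderOf_eq_prime hx3 hx1'
      have hz : Subgroup.zpowers (x : G) = N ⊓ N₉ := by
        apply Subgroup.eq_of_le_of_card_ge (Subgroup.zpowers_le.2 x.2)
        rw [Nat.card_zpowers, ho, hk2, pow_one]
      have hconj : a * (x : G) * a⁻¹ ∈ Subgroup.zpowers (x : G) := by
        rw [hz]
        exact hKn.conj_mem _ x.2 a
      obtain ⟨k, hk⟩ := Subgroup.mem_zpowers_iff.1 hconj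
      have h1 : a ^ 2 * (x : G) * (a ^ 2)⁻¹ = (x : G) ^ (k * k) := by
        calc a ^ 2 * (x : G) * (a ^ 2)⁻¹ = a * (a * (x : G) * a⁻¹) * a⁻¹ := conj_sq a _
          _ = a * (x : G) ^ k * a⁻¹ := by rw [hk]
          _ = (a * (x : G) * a⁻¹) ^ k := by rw [conj_zpow]
          _ = (x : G) ^ (k * k) := by rw [← hk, ← zpow_mul]
      have h2 : (x : G) ^ (k * k + 1) = 1 := by
        rw [zpow_add, zpow_one, ← h1, hinv _ hxN₉, inv_mul_cancel]
      have h3 : ((orderOf (x : G) : ℕ) : ℤ) ∣ k * k + 1 := orderOf_dvd_iff_zpow_eq_one.2 h2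
      rw [ho] at h3
      exact three_not_dvd_sq_add_one k (by exact_mod_cast h3)
    · -- order nine
      have : N ⊓ N₉ = N₉ := Subgroup.eq_of_le_of_card_ge hKle (by rw [h9, hk2]; norm_num)
      rw [← this]
      exact inf_le_left

/-- the minimal normal subgroup of a group of order 72 of shape `3² : Q₈` -/
theorem exists_min_normal_72 (hG : Nat.card G = 72) (n1 n2 a b : G)
    (h1 : n1 ^ 3 = 1) (h2 : n2 ^ 3 = 1) (hc : n1 * n2 = n2 * n1)
    (hn1 : n1 ≠ 1) (hn2 : n2 ≠ 1) (hn2' : n2 ≠ n1) (hn2'' : n2 ≠ n1 ^ 2)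
    (ha : a ^ 4 = 1) (hb : b ^ 2 = a ^ 2) (hab : b * a = a ^ 3 * b) (ha2 : a ^ 2 ≠ 1)
    (r1 : a * n1 = n2 ^ 2 * a) (r2 : a * n2 = n1 * a)
    (c3 : b * n1 * b⁻¹ ∈ Subgroup.closure ({n1, n2} : Set G))
    (c4 : b * n2 * b⁻¹ ∈ Subgroup.closure ({n1, n2} : Set G)) :
    ∃ M : Subgroup G, (∀ N : Subgroup G, N.Normal → N = ⊥ ∨ M ≤ N) ∧ ∃ s ∈ M, orderOf s = 3 := by
  classical
  have hfin : Finite G := Nat.finite_of_card_ne_zero (by rw [hG]; norm_num)
  have hn1c : n1 ∈ Subgroup.closure ({n1, n2} : Set G) := Subgroup.subset_closure (by simp)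
  have hn2c : n2 ∈ Subgroup.closure ({n1, n2} : Set G) := Subgroup.subset_closure (by simp)
  obtain ⟨N₉, hN₉, h9, hexp, ⟨ψ⟩⟩ := recog hG n1 n2 a b h1 h2 hc hn1 hn2 hn2' hn2'' ha hb hab ha2
    (by rw [r1, mul_inv_cancel_right]; exact Subgroup.pow_mem _ hn2c 2)
    (by rw [r2, mul_inv_cancel_right]; exact hn1c) c3 c4
  -- elements of order three lie in `N₉`
  have hmem3 : ∀ x : G, x ^ 3 = 1 → x ∈ N₉ := by
    intro x hx
    have e1 : (ψ ((QuotientGroup.mk' N₉) x)) ^ 3 = 1 := by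
      rw [← map_pow, ← map_pow, hx, map_one, map_one]
    have e2 : (ψ ((QuotientGroup.mk' N₉) x)) ^ 8 = 1 := by
      have := pow_card_eq_one' (G := QuaternionGroup 2) (x := ψ ((QuotientGroup.mk' N₉) x))
      rwa [card_q8] at this
    have e3 : ψ ((QuotientGroup.mk' N₉) x) = 1 := by
      calc ψ ((QuotientGroup.mk' N₉) x)
          = (ψ ((QuotientGroup.mk' N₉) x)) ^ 9 * ((ψ ((QuotientGroup.mk' N₉) x)) ^ 8)⁻¹ := by group
        _ = 1 := by
            rw [e2, inv_one, mul_one, show 9 = 3 * 3 from rfl, pow_mul, e1, one_pow]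
    have e4 : (QuotientGroup.mk' N₉) x = 1 := ψ.injective (by rw [e3, map_one])
    exact (QuotientGroup.eq_one_iff _).1 e4
  have hn1N : n1 ∈ N₉ := hmem3 n1 h1
  have hn2N : n2 ∈ N₉ := hmem3 n2 h2
  have hcomm : ∀ x ∈ N₉, ∀ y ∈ N₉, x * y = y * x := by
    have : Fact (Nat.Prime 3) := ⟨by norm_num⟩
    have hc := IsPGroup.isMulCommutative_of_card_eq_prime_sq (G := ↥N₉) (p := 3) (by rw [h9]; norm_num)
    intro x hx y hy
    have := hc.is_comm.comm ⟨x, hx⟩ ⟨y, hy⟩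
    exact congrArg Subtype.val this
  -- the subgroup of elements inverted by `a²`
  let I : Subgroup G :=
    { carrier := {n | n ∈ N₉ ∧ a ^ 2 * n * (a ^ 2)⁻¹ = n⁻¹}
      one_mem' := ⟨N₉.one_mem, by group⟩
      mul_mem' := by
        rintro x y ⟨hx, hx'⟩ ⟨hy, hy'⟩
        refine ⟨N₉.mul_mem hx hy, ?_⟩
        calc a ^ 2 * (x * y) * (a ^ 2)⁻¹ = (a ^ 2 * x * (a ^ 2)⁻¹) * (a ^ 2 * y * (a ^ 2)⁻¹) := by
              group
          _ = x⁻¹ * y⁻¹ := by rw [hx', hy']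
          _ = (x * y)⁻¹ := by rw [hcomm x hx y hy, mul_inv_rev]
      inv_mem' := by
        rintro x ⟨hx, hx'⟩
        refine ⟨N₉.inv_mem hx, ?_⟩
        calc a ^ 2 * x⁻¹ * (a ^ 2)⁻¹ = (a ^ 2 * x * (a ^ 2)⁻¹)⁻¹ := by group
          _ = x⁻¹⁻¹ := by rw [hx'] }
  have hIle : I ≤ N₉ := fun x hx => hx.1
  have e_a1 : a * n1 * a⁻¹ = n2 ^ 2 := by rw [r1, mul_inv_cancel_right]
  have e_a2 : a * n2 * a⁻¹ = n1 := by rw [r2, mul_inv_cancel_right]
  have hn1I : n1 ∈ I := by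
    refine ⟨hn1N, ?_⟩
    calc a ^ 2 * n1 * (a ^ 2)⁻¹ = a * (a * n1 * a⁻¹) * a⁻¹ := conj_sq a n1
      _ = (a * n2 * a⁻¹) ^ 2 := by rw [e_a1, conj_pow]
      _ = n1 ^ 2 := by rw [e_a2]
      _ = n1⁻¹ := by
          calc n1 ^ 2 = n1 ^ 3 * n1⁻¹ := by group
            _ = n1⁻¹ := by rw [h1, one_mul]
  have hn2I : n2 ∈ I := by
    refine ⟨hn2N, ?_⟩
    calc a ^ 2 * n2 * (a ^ 2)⁻¹ = a * (a * n2 * a⁻¹) * a⁻¹ := conj_sq a n2
      _ = n2 ^ 2 := by rw [e_a2, e_a1]
      _ = n2⁻¹ := by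
          calc n2 ^ 2 = n2 ^ 3 * n2⁻¹ := by group
            _ = n2⁻¹ := by rw [h2, one_mul]
  have : Fact (Nat.Prime 3) := ⟨Nat.prime_three⟩
  have o1 : orderOf n1 = 3 := orderOf_eq_prime h1 hn1
  have hIeq : I = N₉ := by
    apply Subgroup.eq_of_le_of_card_ge hIle
    have hdvd : Nat.card ↥I ∣ 9 := h9 ▸ Subgroup.card_dvd_of_le hIle
    have hdvd' : Nat.card ↥I ∣ 3 ^ 2 := hdvd
    obtain ⟨k, hk, hk2⟩ := (Nat.dvd_prime_pow Nat.prime_three (m := 2)).1 hdvd'
    have hz : Subgroup.zpowers n1 ≤ I := Subgroup.zpowers_le.2 hn1I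
    have hzc : Nat.card (Subgroup.zpowers n1) = 3 := by rw [Nat.card_zpowers, o1]
    have hn2z : n2 ∉ Subgroup.zpowers n1 := by
      rw [mem_zpowers_iff_mem_range_orderOf, o1]
      intro hmem
      rw [Finset.mem_image] at hmem
      obtain ⟨j, hj, hj2⟩ := hmem
      rw [Finset.mem_range] at hj
      interval_cases j
      · exact hn2 (by rw [← hj2, pow_zero])
      · exact hn2' (by rw [← hj2, pow_one])
      · exact hn2'' hj2.symm
    have hlt : 3 < Nat.card ↥I := by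
      by_contra hle
      have hle' : Nat.card ↥I ≤ 3 := not_lt.1 hle
      have : Subgroup.zpowers n1 = I := Subgroup.eq_of_le_of_card_ge hz (by rw [hzc]; exact hle')
      exact hn2z (this ▸ hn2I)
    rw [h9]
    rw [hk2] at hlt ⊢
    interval_cases k <;> simp_all
  have hinv : ∀ n ∈ N₉, a ^ 2 * n * (a ^ 2)⁻¹ = n⁻¹ := by
    intro n hn
    have : n ∈ I := by rw [hIeq]; exact hn
    exact this.2
  have hne : N₉ ≠ ⊥ := by
    intro h
    rw [h, Subgroup.mem_bot] at hn1N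
    exact hn1 hn1N
  exact ⟨N₉, dichotomy_of_inverting N₉ h9 hexp hne ψ a ha hinv, n1, hn1N, o1⟩

end Cfsg.Agent.Lib.Helper8.BalU
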